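import Groth.Agent.Lib.ImTor21.FlatKer
import Groth.Agent.Lib.CartanT21.Iso
import Groth.Agent.Lib.MTExt21.BaseChange
import Groth.Agent.Lib.AttrBorel21.MTNilp
import Groth.Agent.Lib.AbSchRigid22.Basic
import Groth.Agent.Lib.CartanRel21.Basic

/-!
# Central homomorphisms from groups of multiplicative type factor through maximal tori
-/

set_option autoImplicit false
set_option linter.style.haveILetI false
set_option linter.unusedSectionVars false
set_option backward.isDefEq.respectTransparency.types false

universe u

open CategoryTheory Limits MonoidalCategory CartesianMonoidalCategory MonObj AlgebraicGeometry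

noncomputable section

namespace Groth.Agent.ImTor21

open DiagGL MTRigid29

variable {S : Scheme.{u}} {G T H : Over S} [GrpObj G] [GrpObj T] [GrpObj H]

/-- A map compatible with products of points is a homomorphism. -/
theorem isMonHom_of_points {A B : Over S} [GrpObj A] [GrpObj B] (f : A ⟶ B)
    (h : ∀ (X : Over S) (x y : X ⟶ A), (x * y) ≫ f = (x ≫ f) * (y ≫ f)) : IsMonHom f where
  one_hom := by
    have h1 := h (𝟙_ _) 1 1
    rw [_root_.one_mul (1 : 𝟙_ _ ⟶ A)] at h1
    rw [MonObj.one_eq_one, MonObj.one_eq_one]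
    exact mul_eq_left.1 h1.symm
  mul_hom := by
    rw [MonObj.mul_eq_mul, MonObj.mul_eq_mul, h, MonObj.comp_mul]
    simp

/-- The product of two commuting homomorphisms is a homomorphism. -/
theorem isMonHom_mul_of_comm (u : H ⟶ G) [IsMonHom u] (i : T ⟶ G) [IsMonHom i]
    (hc : ∀ (X : Over S) (x : X ⟶ H) (t : X ⟶ T), (x ≫ u) * (t ≫ i) = (t ≫ i) * (x ≫ u)) :
    IsMonHom ((fst H T ≫ u) * (snd H T ≫ i)) := by
  refine isMonHom_of_points _ fun X a b => ?_
  haveI : IsMonHom (fst H T) := inferInstance
  simp only [MonObj.comp_mul, ← Category.assoc]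
  rw [MonObj.mul_comp a b (fst H T), MonObj.mul_comp a b (snd H T), MonObj.mul_comp _ _ u, MonObj.mul_comp _ _ i]
  simp only [_root_.mul_assoc]
  congr 1
  rw [← _root_.mul_assoc, hc, _root_.mul_assoc]

set_option maxHeartbeats 2000000 in
/-- A central homomorphism from a group of multiplicative type factors through any maximal torus. -/
theorem exists_lift_central [Smooth G.hom] [IsAffineHom G.hom]
    (hconn : ∀ s : S, _root_.IsConnected (G.hom.base ⁻¹' {s})) {i : T ⟶ G} (hT : Red.IsMaximalTorus i)
    (hH : SGA3x.IsMultTypeFT H) (u : H ⟶ G) [IsMonHom u]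
    (hc : ∀ (X : Over S) (x : X ⟶ H) (g : X ⟶ G), (x ≫ u) * g = g * (x ≫ u)) :
    ∃ w : H ⟶ T, w ≫ i = u := by
  haveI := hT.1
  haveI := hT.2.1
  have hMT := TorPts21.isMultTypeFT_of_isTorus hT.2.2.1
  haveI := lfp_of_isMultTypeFT hMT
  haveI := flat_of_isMultTypeFT hMT
  haveI := lfp_of_isMultTypeFT hH
  haveI : LocallyOfFinitePresentation (H ⊗ T).hom := by
    rw [Over.tensorObj_hom]; infer_instance
  haveI := isMonHom_mul_of_comm u i fun X x t => hc X x (t ≫ i)
  generalize hf : (fst H T ≫ u) * (snd H T ≫ i) = f at this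
  obtain ⟨K, _, k, hkm, hkc, hKfp, hker, hpts⟩ := exists_kernel f
  haveI := hkm
  haveI := hkc
  haveI := hKfp
  have hKf := flat_kernel_of_etale_chars (etaleChars_tensor hH hMT) f k hpts
  obtain ⟨Q, _, q, hqm, hq, hQfp, m, hm, hmono, hqm'⟩ :=
    QuotFlat20.exists_kernelQuotient (.inl inferInstance) f k hker hKf
  haveI := hqm
  haveI := hm
  haveI := hmono
  haveI := hQfp
  let e₂ : T ⟶ H ⊗ T := lift 1 (𝟙 T)
  have he₂ : e₂ ≫ f = i := by
    subst hf
    simp [e₂, MonObj.comp_mul, MonObj.one_comp]
  haveI : Mono (e₂ ≫ q) := by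
    haveI : Mono ((e₂ ≫ q) ≫ m) := by rw [Category.assoc, hqm', he₂]; infer_instance
    exact mono_of_mono (e₂ ≫ q) m
  haveI : LocallyOfFiniteType Q.hom := inferInstance
  haveI : IsIso (e₂ ≫ q) := CartanT21.isIso_of_geom_fibres _ fun s => by
    let g := Red.geomPt s
    let F := Over.pullback g
    haveI : ∀ x : S, ConnectedSpace ↥(G.hom.fiber x) := fun x => by
      have h1 := hconn x
      haveI : ConnectedSpace ↥(G.hom.base ⁻¹' {x}) := isConnected_iff_connectedSpace.1 h1
      exact (G.hom.fiberHomeo x).symm.surjective.connectedSpace (G.hom.fiberHomeo x).symm.continuous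
    haveI : GeometricallyConnected G.hom := AbSchRigid22.geometricallyConnected_of_grpObj G this
    haveI : ConnectedSpace ↥(F.obj G).left := by
      haveI : GeometricallyConnected (pullback.snd G.hom g) := inferInstance
      exact GeometricallyConnected.connectedSpace_of_subsingleton (pullback.snd G.hom g)
    haveI : Smooth (Red.bc g G).hom := inferInstanceAs (Smooth (pullback.snd G.hom g))
    haveI : IsAffineHom (Red.bc g G).hom := inferInstanceAs (IsAffineHom (pullback.snd G.hom g))
    haveI : IsAffine (Red.bc g G).left := isAffine_of_isAffineHom (Red.bc g G).hom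
    haveI := isMonHom_map u g
    haveI := isMonHom_map m g
    haveI := isMonHom_map q g
    haveI : Mono (F.map m) := Functor.map_mono _ _
    have hTs := MTExt21.isMaximalTorus_bc hT g
    haveI := hTs.1
    haveI := hTs.2.1
    obtain ⟨w, hw⟩ := AttrBorel21.exists_lift_maxTorus_of_multType hTs (isMultTypeFT_bc hH g) (F.map u)
      fun X x t => by
        apply fl_injective g G
        rw [fl_mul, fl_mul, fl_comp_map, fl_comp_map, hc]
    let a := F.map (fst H T)
    let b := F.map (snd H T)
    let z : F.obj (H ⊗ T) ⟶ F.obj T := (a ≫ w) * b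
    haveI := isMonHom_map i g
    have hz : z ≫ F.map i = F.map f := by
      show ((a ≫ w) * b) ≫ F.map i = F.map f
      rw [MonObj.mul_comp, Category.assoc, hw, ← hf, Functor.map_mul, Functor.map_comp, Functor.map_comp]
    haveI := isMonHom_map f g
    haveI : IsMonHom z := isMonHom_of_points _ fun X x y => by
      rw [← cancel_mono (F.map i)]
      simp only [Category.assoc, MonObj.mul_comp, hz]
    haveI : Flat (F.map q).left := MorphismProperty.of_isPullback (isPullback_map_left g q) hq.2.1
    haveI : Surjective (F.map q).left := MorphismProperty.of_isPullback (isPullback_map_left g q) hq.1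
    haveI : LocallyOfFinitePresentation (F.map q).left :=
      MorphismProperty.of_isPullback (isPullback_map_left g q) hq.2.2.1
    obtain ⟨r, -, hr⟩ := exists_desc_hom (F.map q) z fun x y h => by
      rw [← cancel_mono (F.map i), Category.assoc, Category.assoc, hz, ← hqm', Functor.map_comp,
        ← Category.assoc, h, Category.assoc]
    have hri : r ≫ F.map i = F.map m := by
      haveI : Epi (F.map q).left := Flat.epi_of_flat_of_surjective _
      haveI : Epi (F.map q) := Over.epi_of_epi_left _
      rw [← cancel_epi (F.map q), ← Category.assoc, hr, hz, ← hqm', Functor.map_comp]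
    refine ⟨⟨r, ?_, ?_⟩⟩
    · rw [← cancel_mono (F.map i), Category.assoc, hri, Category.id_comp, ← Functor.map_comp, Category.assoc, hqm', he₂]
    · rw [← cancel_mono (F.map m), Category.assoc, ← Functor.map_comp, Category.assoc, hqm', he₂, hri, Category.id_comp]
  refine ⟨lift (𝟙 H) 1 ≫ q ≫ inv (e₂ ≫ q), ?_⟩
  have h : inv (e₂ ≫ q) ≫ i = m := by
    rw [IsIso.inv_comp_eq, Category.assoc, hqm', he₂]
  rw [Category.assoc, Category.assoc, h, hqm', ← hf]
  simp [MonObj.comp_mul, MonObj.one_comp]

end Groth.Agent.ImTor21
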