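import Groth.Agent.Lib.ImTor21.Surj
import Groth.Agent.Lib.MTConj21.Basic
import Groth.Agent.Lib.AttrBorel21.BorelFacts
import Groth.Agent.Lib.MTExt21.Torus

/-!
# Images of maximal tori over an algebraically closed field
-/

set_option autoImplicit false
set_option linter.style.haveILetI false
set_option linter.unusedSectionVars false
set_option backward.isDefEq.respectTransparency.types false

universe u

open CategoryTheory Limits MonoidalCategory CartesianMonoidalCategory MonObj AlgebraicGeometry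

noncomputable section

namespace Groth.Agent.ImTor21

variable {k : Type u} [Field k] [IsAlgClosed k]

set_option maxHeartbeats 1000000 in
/-- The image of a maximal torus under a surjective homomorphism is a maximal torus. -/
theorem isMaxTorus_image_gen {G G' T T' : Over (Spec (CommRingCat.of k))} [GrpObj G] [GrpObj G'] [GrpObj T]
    [GrpObj T'] [Smooth G.hom] [QuasiCompact G.hom] [LocallyOfFiniteType G'.hom]
    (u : G ⟶ G') [IsMonHom u] [Surjective u.left] {i : T ⟶ G} (hT : AGF.IsMaxTorus i) (j : T' ⟶ G') [IsMonHom j]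
    [Mono j] (hT' : Red.IsTorus T') (q : T ⟶ T') (hq : q ≫ j = i ≫ u) : AGF.IsMaxTorus j := by
  refine ⟨inferInstance, inferInstance, hT', fun R _ j' _ _ f hR hf => ?_⟩
  haveI := hT.1
  haveI := hT.2.1
  obtain ⟨hTa, hTs, hTc, -⟩ := TorPts21.props_of_isTorus hT.2.2.1
  obtain ⟨hRa, hRs, hRc, -⟩ := TorPts21.props_of_isTorus hR
  haveI := hTa; haveI := hTs; haveI := hTc; haveI := hRa; haveI := hRs; haveI := hRc
  haveI : IsReduced T.left := OrbitTop19.isReduced_of_smooth T.hom
  haveI : IsReduced R.left := OrbitTop19.isReduced_of_smooth R.hom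
  haveI : IsClosedImmersion j'.left := AttrBorel21.isClosedImmersion_torus_gen hR j'
  obtain ⟨D, _, dC, dB, hdm, hdc, hD⟩ := TorPts21.exists_subgroup_inter u j'
  haveI := hdm; haveI := hdc
  haveI : Mono dC := Over.mono_of_mono_left dC
  haveI : Surjective dB.left := MorphismProperty.of_isPullback (P := @Surjective) (hD.map (Over.forget _)) ‹_›
  haveI : LocallyOfFiniteType D.hom := by rw [← Over.w dC]; infer_instance
  haveI : QuasiCompact D.hom := by rw [← Over.w dC]; infer_instance
  obtain ⟨Dr, _, r, hrm, hrc, hrs, hrr, hrsm⟩ := BorelFix21.exists_reduced_subgroup D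
  haveI := hrm; haveI := hrc; haveI := hrs; haveI := hrr; haveI := hrsm
  haveI : Mono r := Over.mono_of_mono_left r
  haveI : QuasiCompact Dr.hom := by rw [← Over.w r]; infer_instance
  obtain ⟨D₀, _, h, hhm, hho, hhc, hhs, hhq, hhn⟩ := AttrBorel21.exists_component_closed Dr
  haveI := hhm; haveI := hho; haveI := hhc; haveI := hhs; haveI := hhq; haveI := hhn
  haveI : Mono h := Over.mono_of_mono_left h
  have hdB : dB ≫ j' = dC ≫ u := hD.w.symm
  haveI : IsMonHom (dB ≫ j') := by rw [hdB]; infer_instance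
  haveI : IsMonHom dB := MTExt21.isMonHom_of_comp' j' dB inferInstance
  let π := r ≫ dB
  haveI : Surjective π.left := inferInstanceAs (Surjective (r.left ≫ dB.left))
  haveI : Flat π.left := AbRigid.flat_of_surjective_of_isReduced Dr R π
  haveI : LocallyOfFinitePresentation π.left := by
    haveI : LocallyOfFiniteType (π.left ≫ R.hom) := by rw [Over.w π]; infer_instance
    haveI : LocallyOfFiniteType π.left := locallyOfFiniteType_of_comp π.left R.hom
    haveI : IsLocallyNoetherian R.left := LocallyOfFiniteType.isLocallyNoetherian R.hom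
    exact LocallyOfFinitePresentation.iff_locallyOfFiniteType.2 inferInstance
  let p₀ := h ≫ π
  have hopen : IsOpen (Set.range p₀.left) := by
    rw [show p₀.left = h.left ≫ π.left from rfl, Scheme.Hom.comp_base, TopCat.coe_comp, Set.range_comp]
    exact π.left.isOpenMap _ h.left.isOpenEmbedding.isOpen_range
  haveI : Surjective p₀.left := ⟨Set.range_eq_univ.1
    (IsClopen.eq_univ ⟨AbRigid.isClosed_range_of_isOpen p₀ hopen, hopen⟩ (Set.range_nonempty _))⟩
  obtain ⟨T₀, _, i₀, hi₀m, hi₀o, hT₀, hi₀s⟩ := exists_torus_surjective hR p₀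
  haveI := hi₀m; haveI := hi₀o; haveI := hi₀s
  let t₁ := hD.lift i (q ≫ f) (by rw [Category.assoc, hf, hq])
  obtain ⟨l, hl⟩ := RedSepLib.exists_lift_of_range_subset t₁.left r.left (by
    intro x _; exact r.left.surjective x)
  let t₂ : T ⟶ Dr := Over.homMk l (by rw [← Over.w r, reassoc_of% hl, Over.w t₁])
  have ht₂ : t₂ ≫ r ≫ dC = i := by
    rw [← Category.assoc, show t₂ ≫ r = t₁ from Over.OverMorphism.ext hl, hD.lift_fst]
  haveI : IsMonHom t₂ := MTExt21.isMonHom_of_comp' (r ≫ dC) t₂ (by rw [ht₂]; infer_instance)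
  obtain ⟨t, ht⟩ := BorelFix21.exists_lift_component h h.left.isClosedEmbedding.isClosed_range t₂
  have htm : t ≫ h ≫ r ≫ dC = i := by rw [← Category.assoc, ht, ht₂]
  have htmax : AGF.IsMaxTorus t := FinBorel21.isMaxTorus_factor (h ≫ r ≫ dC) t (by rw [htm]; exact hT)
  obtain ⟨T₂, _, i₂, f₀, hT₂, hf₀⟩ := AttrBorel21.exists_maxTorus_ge_gen hT₀ i₀
  obtain ⟨g, φ, hφ⟩ := MTConj21.exists_conj_maxTorus_disc hT₂ htmax
  have hcomm : i₂ ≫ p₀ = φ.hom ≫ t ≫ p₀ := by
    rw [← Category.assoc φ.hom, ← hφ, MonObj.mul_comp, MonObj.mul_comp,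
      MTRigid29.commute_of_isMultTypeFT (TorPts21.isMultTypeFT_of_isTorus hR) ((toUnit T₂ ≫ g) ≫ p₀) (i₂ ≫ p₀),
      GrpObj.inv_comp, mul_inv_cancel_right]
  have htq : t ≫ p₀ = q ≫ f := by
    refine (cancel_mono j').1 ?_
    simp only [p₀, π, Category.assoc, hdB, hf, hq]
    rw [← htm]
    simp only [Category.assoc]
  have hsur : i₀ ≫ p₀ = (f₀ ≫ φ.hom ≫ q) ≫ f := by
    rw [← hf₀, Category.assoc, hcomm, htq]
    simp only [Category.assoc]
  haveI : Surjective ((f₀ ≫ φ.hom ≫ q).left ≫ f.left) := by rw [← Over.comp_left, ← hsur]; infer_instance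
  haveI : Surjective f.left := Surjective.of_comp (f₀ ≫ φ.hom ≫ q).left f.left
  haveI : IsMonHom (f ≫ j') := by rw [hf]; infer_instance
  haveI : Mono (f ≫ j') := by rw [hf]; infer_instance
  haveI : IsMonHom f := MTExt21.isMonHom_of_comp' j' f inferInstance
  haveI : Mono f := mono_of_mono f j'
  haveI : IsClosedImmersion f.left := AttrBorel21.isClosedImmersion_torus_gen hT' f
  haveI : IsIso f.left := isIso_of_isClosedImmersion_of_surjective f.left
  haveI : IsIso ((Over.forget _).map f) := ‹IsIso f.left›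
  exact isIso_of_reflects_iso f (Over.forget _)

end Groth.Agent.ImTor21
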