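import Groth.Agent.Lib.ImTor21.Kernel
import Groth.Agent.Lib.MTRigid29.LocSplitImage

/-!
# Kernels of homomorphisms out of products of groups of multiplicative type
-/

set_option autoImplicit false
set_option linter.style.haveILetI false
set_option linter.unusedSectionVars false
set_option backward.isDefEq.respectTransparency.types false

universe u

open CategoryTheory Limits MonoidalCategory CartesianMonoidalCategory MonObj AlgebraicGeometry

noncomputable section

namespace Groth.Agent.ImTor21

open DiagGL MTRigid29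

variable {S : Scheme.{u}} {T G K : Over S} [GrpObj T] [GrpObj G] [GrpObj K]

/-- Etale-locally diagonalisable with finitely generated characters. -/
def EtaleChars (T : Over S) [GrpObj T] : Prop :=
  ∀ s : S, ∃ (U : Scheme.{u}) (e : U ⟶ S), Etale e ∧ s ∈ Set.range e ∧
    ∃ (M : Type) (_ : AddCommGroup M), AddGroup.FG M ∧ Nonempty (Chars M (Red.bc e T))

/-- A product of two groups of multiplicative type is etale-locally diagonalisable. -/
theorem etaleChars_tensor {H : Over S} [GrpObj H] (hH : SGA3x.IsMultTypeFT H) (hT : SGA3x.IsMultTypeFT T) :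
    EtaleChars (H ⊗ T) := by
  intro s
  obtain ⟨U, e, he, ⟨x, hx⟩, M, _, hM, ⟨C⟩⟩ := MTDesc21.exists_etale_chars_ft hH s
  haveI := he
  obtain ⟨U', e', he', ⟨y, hy⟩, N, _, hN, ⟨D⟩⟩ := MTDesc21.exists_etale_chars_ft (isMultTypeFT_bc hT e) x
  haveI := he'
  haveI := hM
  haveI := hN
  refine ⟨U', e' ≫ e, inferInstance, ⟨y, by rw [Scheme.Hom.comp_apply, hy, hx]⟩, M × N, inferInstance, inferInstance,
    ⟨charsProd (e' ≫ e) (charsComp e e' H (C.baseChange e' _)) (charsComp e e' T D)⟩⟩

/-- The kernel of a homomorphism out of an etale-locally diagonalisable group is flat. -/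
theorem flat_kernel_of_etale_chars [IsSeparated G.hom] [LocallyOfFiniteType G.hom] (hT : EtaleChars T) (p : T ⟶ G) [IsMonHom p]
    (k : K ⟶ T) [IsMonHom k] [IsClosedImmersion k.left] [LocallyOfFinitePresentation K.hom]
    (hK : ∀ (X : Over S) (x : X ⟶ T), (∃ y : X ⟶ K, y ≫ k = x) ↔ x ≫ p = 1) : Flat K.hom := by
  have key : ∀ s : S, ∃ (W : Scheme.{u}) (w : W ⟶ S), Flat w ∧ s ∈ Set.range w ∧ Flat (Red.bc w K).hom := by
    intro s
    obtain ⟨U, e, he, ⟨u₀, hu₀⟩, M, _, hM, ⟨C⟩⟩ := hT s
    haveI := he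
    haveI := hM
    haveI : IsSeparated (Red.bc e G).hom := inferInstanceAs (IsSeparated (pullback.snd G.hom e))
    haveI : LocallyOfFiniteType (Red.bc e G).hom := inferInstanceAs (LocallyOfFiniteType (pullback.snd G.hom e))
    haveI := isMonHom_map p e
    haveI := isMonHom_map k e
    haveI : LocallyOfFinitePresentation (Red.bc e K).hom := MorphismProperty.pullback_snd K.hom e ‹_›
    haveI : IsClosedImmersion ((Over.pullback e).map k).left :=
      MorphismProperty.of_isPullback (isPullback_map_left e k) ‹IsClosedImmersion k.left›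
    obtain ⟨W, w, hw, ⟨w₀, hw₀⟩, hfl⟩ := exists_nhd_flat C ((Over.pullback e).map p) ((Over.pullback e).map k)
      (fun X x => ⟨fun ⟨y, hy⟩ => by
        rw [← hy, Category.assoc, ← Functor.map_comp, (hK _ k).1 ⟨𝟙 _, Category.id_comp _⟩, Functor.map_one,
          MonObj.comp_one],
      fun hx => by
        obtain ⟨z, hz⟩ := (hK _ (fl e T x)).2 (by rw [← fl_comp_map, hx, fl_one])
        obtain ⟨z', rfl⟩ := fl_surjective e K z
        exact ⟨z', fl_injective e T (by rw [fl_comp_map, hz])⟩⟩) u₀
    haveI := hw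
    refine ⟨W, w ≫ e, inferInstance, ⟨w₀, by rw [Scheme.Hom.comp_apply, hw₀, hu₀]⟩, ?_⟩
    haveI := hfl
    let B := pullbackLeftPullbackSndIso K.hom e w
    have h1 : B.inv ≫ (Red.bc w (Red.bc e K)).hom = (Red.bc (w ≫ e) K).hom := by
      show B.inv ≫ pullback.snd _ _ = pullback.snd _ _
      simp [B]
    rw [← h1]
    infer_instance
  choose W w hwf hs hfl using key
  let g := Sigma.desc fun s => pullback.fst K.hom (w s)
  haveI : Flat g := IsZariskiLocalAtSource.sigmaDesc fun s => by
    haveI := hwf s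
    infer_instance
  haveI : Flat (g ≫ K.hom) := by
    rw [show g ≫ K.hom = Sigma.desc fun s => pullback.fst K.hom (w s) ≫ K.hom from
      Sigma.hom_ext _ _ fun s => by simp [g]]
    refine IsZariskiLocalAtSource.sigmaDesc fun s => ?_
    haveI := hwf s
    haveI : Flat (pullback.snd K.hom (w s)) := hfl s
    rw [pullback.condition]
    infer_instance
  haveI : Surjective g := ⟨fun x => by
    obtain ⟨w₀, hw₀⟩ := hs (K.hom x)
    obtain ⟨y, hy, -⟩ := Scheme.Pullback.exists_preimage_pullback (f := K.hom) (g := w (K.hom x)) x w₀ hw₀.symm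
    refine ⟨Sigma.ι (fun s => pullback K.hom (w s)) (K.hom x) y, ?_⟩
    rw [← Scheme.Hom.comp_apply, Sigma.ι_desc, hy]⟩
  exact AlgSpDescent.flat_of_comp_flat_surjective g K.hom

end Groth.Agent.ImTor21
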