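import Groth.Agent.Lib.MTRigid29.MonoNhd
import Groth.Agent.Lib.MTRigid29.SplitTori
import Groth.Agent.Lib.MTRigid29.CentralizerNormalizer
import Groth.Agent.Lib.MTRigid29.MonoClosedGlobal
import Groth.Agent.Lib.MTRigid29.SubgrpFlatScheme
import Groth.Agent.Lib.MTRigid29.MTFlat
import Groth.Agent.Lib.MTDesc21.Split
import Groth.Agent.Lib.AlgSpDescent.SchemeSource

/-!
# Kernels of homomorphisms out of groups of multiplicative type are flat
-/

set_option autoImplicit false
set_option linter.style.haveILetI false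
set_option linter.unusedSectionVars false
set_option backward.isDefEq.respectTransparency.types false

universe u

open CategoryTheory Limits MonoidalCategory CartesianMonoidalCategory MonObj AlgebraicGeometry

noncomputable section

namespace Groth.Agent.ImTor21

open DiagGL MTRigid29

variable {S : Scheme.{u}} {T G K : Over S} [GrpObj T] [GrpObj G]

/-- The kernel of a homomorphism to a separated group. -/
theorem exists_kernel [IsSeparated G.hom] [LocallyOfFiniteType G.hom] [LocallyOfFinitePresentation T.hom]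
    (p : T ⟶ G) [IsMonHom p] :
    ∃ (K : Over S) (_ : GrpObj K) (k : K ⟶ T), IsMonHom k ∧ IsClosedImmersion k.left ∧
      LocallyOfFinitePresentation K.hom ∧ AlgGrp.IsKernel k p ∧
      ∀ (X : Over S) (x : X ⟶ T), (∃ y : X ⟶ K, y ≫ k = x) ↔ x ≫ p = 1 := by
  let e := (η[G]).left
  have he : e ≫ G.hom = (𝟙_ (Over S)).hom := Over.w η[G]
  haveI : IsClosedImmersion e := by
    haveI : IsClosedImmersion (e ≫ G.hom) := by rw [he]; exact inferInstanceAs (IsClosedImmersion (𝟙 S))
    exact IsClosedImmersion.of_comp e G.hom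
  haveI : LocallyOfFinitePresentation e := by
    haveI : LocallyOfFinitePresentation (e ≫ G.hom) := by
      rw [he]; exact inferInstanceAs (LocallyOfFinitePresentation (𝟙 S))
    exact SchBasic.locallyOfFinitePresentation_of_comp e G.hom
  let K : Over S := Over.mk (pullback.fst p.left e ≫ T.hom)
  let k : K ⟶ T := Over.homMk (pullback.fst p.left e) rfl
  have hpb : IsPullback k (toUnit K) p η[G] := by
    have hw : pullback.snd p.left e = (toUnit K).left := by
      have h1 : pullback.snd p.left e ≫ (𝟙_ (Over S)).hom = K.hom := by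
        show _ = pullback.fst p.left e ≫ T.hom
        rw [← he, ← Category.assoc, ← pullback.condition, Category.assoc, Over.w p]
      exact congrArg CommaMorphism.left (toUnit_unique (Over.homMk (pullback.snd p.left e) h1) (toUnit K))
    have h := IsPullback.of_hasPullback p.left e
    rw [hw] at h
    exact IsPullback.of_map (Over.forget _) (Over.OverMorphism.ext h.w) h
  haveI : IsClosedImmersion k.left := inferInstanceAs (IsClosedImmersion (pullback.fst p.left e))
  haveI : Mono k := Over.mono_of_mono_left k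
  have hpts : ∀ (X : Over S) (x : X ⟶ T), (∃ y : X ⟶ K, y ≫ k = x) ↔ x ≫ p = 1 := by
    refine fun X x => ⟨?_, fun h => ?_⟩
    · rintro ⟨y, rfl⟩
      rw [Category.assoc, hpb.w, ← Category.assoc, toUnit_unique (y ≫ toUnit K) (toUnit X), Hom.one_def]
    · have h' : x ≫ p = toUnit X ≫ η[G] := by rw [h, Hom.one_def]
      exact ⟨hpb.lift x (toUnit X) h', hpb.lift_fst _ _ h'⟩
  obtain ⟨hgrp, hhom⟩ := exists_grpObj_of_subgroup k
    (fun X a b => (hpts X _).2 (by rw [MonObj.mul_comp, (hpts X _).1 ⟨a, rfl⟩, (hpts X _).1 ⟨b, rfl⟩, _root_.one_mul]))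
    ((hpts _ _).2 (MonObj.one_comp p))
    (fun X a => (hpts X _).2 (by rw [GrpObj.inv_comp, (hpts X _).1 ⟨a, rfl⟩, inv_one]))
  haveI : LocallyOfFinitePresentation K.hom :=
    inferInstanceAs (LocallyOfFinitePresentation (pullback.fst p.left e ≫ T.hom))
  exact ⟨K, hgrp, k, hhom, inferInstance, inferInstance, hpb, hpts⟩

/-- Monomorphy descends along flat quasi-compact surjections. -/
theorem monic_of_flat_cover (u : T ⟶ G) {U U' : Scheme.{u}} (q : U' ⟶ U) [Flat q] [Surjective q] [QuasiCompact q]
    {f : U ⟶ S} (h : Monic u (q ≫ f)) : Monic u f := by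
  intro Y x hx
  haveI : Flat (pullback.fst Y.hom q) := MorphismProperty.pullback_fst _ _ ‹_›
  haveI : Surjective (pullback.fst Y.hom q) := MorphismProperty.pullback_fst _ _ ‹_›
  haveI : EffectiveEpi (pullback.fst Y.hom q) := effectiveEpi_of_cover _ fun V hV =>
    ⟨pullback.fst Y.hom q ⁻¹ᵁ V, (pullback.fst Y.hom q).isCompact_preimage hV.isCompact,
      Set.image_preimage_eq _ (pullback.fst Y.hom q).surjective⟩
  let c : (Over.map (q ≫ f)).obj (Over.mk (pullback.snd Y.hom q)) ⟶ (Over.map f).obj Y :=
    Over.homMk (pullback.fst Y.hom q) (by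
      show pullback.fst Y.hom q ≫ Y.hom ≫ f = pullback.snd Y.hom q ≫ q ≫ f
      rw [pullback.condition_assoc])
  haveI : Epi c.left := inferInstanceAs (Epi (pullback.fst Y.hom q))
  haveI : Epi c := Over.epi_of_epi_left c
  have h1 := h _ (c ≫ x) (by rw [Category.assoc, hx, MonObj.comp_one])
  rwa [← MonObj.comp_one c, cancel_epi] at h1

variable [GrpObj K]

set_option maxHeartbeats 1000000 in
/-- Near every point the kernel agrees with a diagonalisable subgroup. -/
theorem exists_nhd_flat [IsSeparated G.hom] [LocallyOfFiniteType G.hom] {M : Type} [AddCommGroup M] [AddGroup.FG M]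
    (C : Chars M T) (p : T ⟶ G) [IsMonHom p] (k : K ⟶ T) [IsMonHom k] [IsClosedImmersion k.left]
    [LocallyOfFinitePresentation K.hom] (hK : ∀ (X : Over S) (x : X ⟶ T), (∃ y : X ⟶ K, y ≫ k = x) ↔ x ≫ p = 1)
    (s : S) : ∃ (W : Scheme.{u}) (w : W ⟶ S), IsOpenImmersion w ∧ s ∈ Set.range w ∧ Flat (Red.bc w K).hom := by
  haveI : Mono k := Over.mono_of_mono_left k
  let ks := S.fromSpecResidueField s
  haveI : IsMonHom ((Over.pullback ks).map k) := isMonHom_map k ks
  have hKs : SGA3x.IsMultTypeFT (Red.bc ks K) := by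
    refine isMultTypeFT_of_closedSubgroup (Red.bc ks K) (Red.bc ks T)
      (isMultTypeFT_of_chars (C.baseChange ks T)) ((Over.pullback ks).map k)
      (MorphismProperty.of_isPullback (isPullback_map_left ks k) ‹IsClosedImmersion k.left›)
      ?_ (MorphismProperty.pullback_snd K.hom ks ‹_›)
    exact (inferInstance : Flat (pullback.snd K.hom ks))
  obtain ⟨L, _, a, N, _, hN, -, ⟨D₀⟩⟩ := exists_split_point hKs default
  haveI := hN
  haveI : Flat a := inferInstance
  haveI : Surjective a := ⟨Function.surjective_to_subsingleton (α := Spec (CommRingCat.of L)) (β := Spec (S.residueField s)) _⟩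
  let kk := a ≫ ks
  let D : Chars N (Red.bc kk K) := charsComp ks a K D₀
  haveI : IsMonHom ((Over.pullback kk).map k) := isMonHom_map k kk
  obtain ⟨φ, hφ⟩ := exists_mapChS_field D (C.baseChange kk T) ((Over.pullback kk).map k)
  haveI : Mono (mapChS D (C.baseChange kk T) φ) := hφ ▸ inferInstance
  have hφs := surjective_of_mono_mapChS D (C.baseChange kk T) φ
  let H := Red.DS S N
  let E : Chars N H := charsDS S N
  let h := mapChS E C φ
  haveI := mono_mapChS E C hφs
  have htriv : Triv (h ≫ p) kk := by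
    rw [triv_iff_pullback_map, Functor.map_comp, show (Over.pullback kk).map h =
      mapChS (E.baseChange kk H) D (AddMonoidHom.id N) ≫ (Over.pullback kk).map k by
        rw [hφ, mapChS_comp, pullback_map_mapChS]; rfl, Category.assoc, ← Functor.map_comp,
      (hK _ _).1 ⟨𝟙 _, Category.id_comp _⟩, show (Over.pullback kk).map (1 : K ⟶ G) = 1 from Functor.map_one _,
      MonObj.comp_one]
  haveI : QuasiCompact a := inferInstance
  haveI : IsMonHom h := isMonHom_mapChS _ _ _
  obtain ⟨U, -, hmem, hU⟩ := exists_triv_locus (h ≫ p) (isMultTypeFT_of_chars E) (.inr inferInstance)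
  have hsU : s ∈ U := (hmem s).2 (triv_of_flat_cover (h ≫ p) a htriv)
  let ψ : φ.ker →+ M := φ.ker.subtype
  have hker : φ.ker = ψ.range := (AddSubgroup.range_subtype φ.ker).symm
  haveI : Module.Finite ℤ M := Module.Finite.iff_addGroup_fg.2 inferInstance
  haveI : AddGroup.FG φ.ker := Module.Finite.iff_addGroup_fg.1
    (inferInstanceAs (Module.Finite ℤ (AddSubgroup.toIntSubmodule φ.ker)))
  let Q := Red.DS (U : Scheme.{u}) φ.ker
  let EQ : Chars φ.ker Q := charsDS _ _
  let CU := C.baseChange U.ι T
  let EU := E.baseChange U.ι H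
  haveI : IsMonHom ((Over.pullback U.ι).map p) := isMonHom_map p _
  haveI : IsAffineHom (Red.bc U.ι T).hom := isAffineHom_of_isMultTypeFT (isMultTypeFT_of_chars CU)
  haveI : IsAffineHom Q.hom := isAffineHom_of_isMultTypeFT (isMultTypeFT_of_chars EQ)
  haveI : IsSeparated (Red.bc U.ι G).hom := inferInstanceAs (IsSeparated (pullback.snd G.hom U.ι))
  obtain ⟨j', hj'm, hj'⟩ := exists_factor_mapChS CU EQ EU ψ φ Subtype.coe_injective hφs hker
    ((Over.pullback U.ι).map p) (by
      rw [← pullback_map_mapChS, ← Functor.map_comp]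
      exact (triv_iff_pullback_map _ _).1 hU)
  haveI := hj'm
  let q := mapChS CU EQ ψ
  obtain ⟨hqf, hqs⟩ := flat_surjective_mapChS CU EQ (φ := ψ) Subtype.coe_injective
  haveI := hqf
  haveI := hqs
  haveI : QuasiCompact q.left := quasiCompact_left q
  let su : (U : Scheme.{u}) := ⟨s, hsU⟩
  let l : Spec (S.residueField s) ⟶ (U : Scheme.{u}) :=
    IsOpenImmersion.lift U.ι ks (by
      rw [Scheme.range_fromSpecResidueField, Scheme.Opens.range_ι]
      exact Set.singleton_subset_iff.2 hsU)
  have hl : l ≫ U.ι = ks := IsOpenImmersion.lift_fac _ _ _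
  have hmonic : Monic j' (a ≫ l) := by
    intro X x hx
    let f := a ≫ l
    haveI : EffectiveEpi q.left := effectiveEpi_of_cover _ fun V hV =>
      ⟨q.left ⁻¹ᵁ V, q.left.isCompact_preimage hV.isCompact, Set.image_preimage_eq _ q.left.surjective⟩
    let X' : Over (Spec (CommRingCat.of L)) := Over.mk (pullback.fst x.left q.left ≫ X.hom)
    let c : (Over.map f).obj X' ⟶ (Over.map f).obj X := Over.homMk (pullback.fst x.left q.left)
      ((Category.assoc _ _ _).symm)
    haveI : Flat (pullback.fst x.left q.left) := MorphismProperty.pullback_fst _ _ hqf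
    haveI : Surjective (pullback.fst x.left q.left) := MorphismProperty.pullback_fst _ _ hqs
    haveI : QuasiCompact (pullback.fst x.left q.left) := MorphismProperty.pullback_fst _ _ ‹_›
    haveI : Epi c.left := inferInstanceAs (Epi (pullback.fst x.left q.left))
    haveI : Epi c := Over.epi_of_epi_left c
    let y : (Over.map f).obj X' ⟶ Red.bc U.ι T := Over.homMk (pullback.snd x.left q.left) (by
      rw [← Over.w q, ← Category.assoc]
      erw [← pullback.condition]
      rw [Category.assoc]
      erw [Over.w x]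
      rfl)
    have hyq : y ≫ q = c ≫ x := Over.OverMorphism.ext pullback.condition.symm
    suffices y ≫ q = 1 by
      rw [hyq, ← MonObj.comp_one c, cancel_epi] at this
      exact this
    have hp : y ≫ (Over.pullback U.ι).map p = 1 := by
      rw [← hj', ← Category.assoc, hyq, Category.assoc, hx, MonObj.comp_one]
    let X'' : Over (Spec (CommRingCat.of L)) := X'
    let iX : (Over.map kk).obj X' ≅ (Over.map U.ι).obj ((Over.map f).obj X') := Over.isoMk (Iso.refl _) (by
      show 𝟙 _ ≫ (X'.hom ≫ a ≫ l) ≫ U.ι = X'.hom ≫ a ≫ ks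
      simp [← hl])
    let t : (Over.map kk).obj X' ⟶ T := iX.hom ≫ fl U.ι T y
    have htp : t ≫ p = 1 := by
      rw [Category.assoc, ← fl_comp_map, hp, fl_one, MonObj.comp_one]
    obtain ⟨z, hz⟩ := (hK _ t).2 htp
    obtain ⟨z', rfl⟩ := fl_surjective kk K z
    refine EQ.inj fun m => ?_
    rw [ch_mapChS, EQ.one]
    rw [← fl_comp_map, hφ] at hz
    have h2 := congrArg (fun w => C.ch w (Multiplicative.ofAdd (m.toAdd.1))) hz
    change (C.baseChange kk T).ch (z' ≫ mapChS D (C.baseChange kk T) φ) (Multiplicative.ofAdd m.toAdd.1) = _ at h2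
    rw [ch_mapChS, show φ.toMultiplicative (Multiplicative.ofAdd m.toAdd.1) = 1 from
      congrArg Multiplicative.ofAdd (show φ m.toAdd.1 = 0 from m.toAdd.2), map_one] at h2
    simp only [t] at h2
    rw [C.nat] at h2
    exact (map_eq_one_iff _ (by
      haveI : IsIso iX.hom.left := inferInstanceAs (IsIso ((Over.forget S).map iX.hom))
      haveI : IsIso iX.hom.left.appTop := by
        show IsIso (iX.hom.left.app ⊤)
        infer_instance
      exact (ConcreteCategory.bijective_of_isIso (iX.hom.left.appTop)).1)).1 h2.symm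
  obtain ⟨V, hsV, hV⟩ := exists_nhd_monic j' (isMultTypeFT_of_chars EQ) su (by
    have e : (U : Scheme.{u}).fromSpecResidueField su = Spec.map (U.ι.residueFieldMap su) ≫ l := by
      rw [← cancel_mono U.ι, Category.assoc]
      erw [hl]
      exact (Scheme.Hom.SpecMap_residueFieldMap_fromSpecResidueField U.ι su).symm
    rw [e]
    exact monic_comp j' (monic_of_flat_cover j' a hmonic) _)
  let w := V.ι ≫ U.ι
  refine ⟨_, w, inferInstance, ⟨⟨su, hsV⟩, rfl⟩, ?_⟩
  haveI : Mono ((Over.pullback w).map h) := Functor.map_mono _ _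
  haveI : Mono ((Over.pullback w).map k) := Functor.map_mono _ _
  have hw : Triv (h ≫ p) w := triv_comp _ hU V.ι
  obtain ⟨b₀, hb₀⟩ := (hK _ (fl w H (𝟙 _) ≫ h)).2 (by rw [Category.assoc]; exact hw _ _)
  obtain ⟨b, rfl⟩ := fl_surjective w K b₀
  have hb : b ≫ (Over.pullback w).map k = (Over.pullback w).map h := by
    refine fl_injective w T ?_
    rw [fl_comp_map, hb₀, ← fl_comp_map, Category.id_comp]
  let Y := Red.bc w K
  let iY : (Over.map w).obj Y ≅ (Over.map U.ι).obj ((Over.map V.ι).obj Y) := Over.isoMk (Iso.refl _) (by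
    show 𝟙 _ ≫ (Y.hom ≫ V.ι) ≫ U.ι = Y.hom ≫ w
    simp [w])
  obtain ⟨y, hy⟩ := fl_surjective U.ι T (iY.inv ≫ fl w K (𝟙 _) ≫ k)
  have hyp : y ≫ (Over.pullback U.ι).map p = 1 := by
    refine fl_injective U.ι G ?_
    rw [fl_comp_map, hy, fl_one, Category.assoc, Category.assoc, (hK _ k).1 ⟨𝟙 _, Category.id_comp _⟩,
      MonObj.comp_one, MonObj.comp_one]
  have hyq : y ≫ q = 1 := hV _ _ (by rw [Category.assoc, hj', hyp])
  obtain ⟨z, hz⟩ := exists_lift_ker CU EQ EU ψ φ hφs hker y hyq
  obtain ⟨a', ha'⟩ := fl_surjective w H (iY.hom ≫ fl U.ι H z)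
  have haK : a' ≫ (Over.pullback w).map h = (Over.pullback w).map k := by
    refine fl_injective w T ?_
    rw [fl_comp_map, ha', Category.assoc, ← fl_comp_map, pullback_map_mapChS, hz, hy, Iso.hom_inv_id_assoc,
      ← fl_comp_map, Category.id_comp]
  let ε : Red.bc w K ≅ Red.bc w H :=
    ⟨a', b, (cancel_mono ((Over.pullback w).map k)).1 (by rw [Category.assoc, hb, haK, Category.id_comp]),
      (cancel_mono ((Over.pullback w).map h)).1 (by rw [Category.assoc, haK, hb, Category.id_comp])⟩
  haveI := flat_of_isMultTypeFT (isMultTypeFT_of_chars E)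
  haveI : Flat (Red.bc w H).hom := inferInstanceAs (Flat (pullback.snd H.hom w))
  haveI : IsIso ε.hom := ε.isIso_hom
  haveI : IsIso ε.hom.left := by
    show IsIso ((Over.forget _).map ε.hom)
    exact Functor.map_isIso _ _
  rw [← Over.w ε.hom]
  infer_instance

/-- The kernel of a homomorphism out of a group of multiplicative type is flat. -/
theorem flat_kernel [IsSeparated G.hom] [LocallyOfFiniteType G.hom] (hT : SGA3x.IsMultTypeFT T) (p : T ⟶ G) [IsMonHom p]
    (k : K ⟶ T) [IsMonHom k] [IsClosedImmersion k.left] [LocallyOfFinitePresentation K.hom]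
    (hK : ∀ (X : Over S) (x : X ⟶ T), (∃ y : X ⟶ K, y ≫ k = x) ↔ x ≫ p = 1) : Flat K.hom := by
  have key : ∀ s : S, ∃ (W : Scheme.{u}) (w : W ⟶ S), Flat w ∧ s ∈ Set.range w ∧ Flat (Red.bc w K).hom := by
    intro s
    obtain ⟨U, e, he, ⟨u₀, hu₀⟩, M, _, hM, ⟨C⟩⟩ := MTDesc21.exists_etale_chars_ft hT s
    haveI := he
    haveI := hM
    haveI : IsSeparated (Red.bc e G).hom := inferInstanceAs (IsSeparated (pullback.snd G.hom e))
    haveI : LocallyOfFiniteType (Red.bc e G).hom := inferInstanceAs (LocallyOfFiniteType (pullback.snd G.hom e))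
    haveI := isMonHom_map p e
    haveI := isMonHom_map k e
    haveI : LocallyOfFinitePresentation (Red.bc e K).hom := MorphismProperty.pullback_snd K.hom e ‹_›
    haveI : IsClosedImmersion ((Over.pullback e).map k).left :=
      MorphismProperty.of_isPullback (isPullback_map_left e k) ‹IsClosedImmersion k.left›
    obtain ⟨W, w, hw, ⟨w₀, hw₀⟩, hfl⟩ := exists_nhd_flat C ((Over.pullback e).map p) ((Over.pullback e).map k)
      (fun X x => ⟨fun ⟨y, hy⟩ => by
        rw [← hy, Category.assoc, ← Functor.map_comp, (hK _ k).1 ⟨𝟙 _, Category.id_comp _⟩, Functor.map_one,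
          MonObj.comp_one],
      fun hx => by
        obtain ⟨z, hz⟩ := (hK _ (fl e T x)).2 (by rw [← fl_comp_map, hx, fl_one])
        obtain ⟨z', rfl⟩ := fl_surjective e K z
        exact ⟨z', fl_injective e T (by rw [fl_comp_map, hz])⟩⟩) u₀
    haveI := hw
    refine ⟨W, w ≫ e, inferInstance, ⟨w₀, by rw [Scheme.Hom.comp_apply, hw₀, hu₀]⟩, ?_⟩
    haveI := hfl
    let B := pullbackLeftPullbackSndIso K.hom e w
    have h1 : B.inv ≫ (Red.bc w (Red.bc e K)).hom = (Red.bc (w ≫ e) K).hom := by
      show B.inv ≫ pullback.snd _ _ = pullback.snd _ _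
      simp [B]
    rw [← h1]
    infer_instance
  choose W w hwf hs hfl using key
  let g := Sigma.desc fun s => pullback.fst K.hom (w s)
  haveI : Flat g := IsZariskiLocalAtSource.sigmaDesc fun s => by
    haveI := hwf s
    infer_instance
  haveI : Flat (g ≫ K.hom) := by
    rw [show g ≫ K.hom = Sigma.desc fun s => pullback.fst K.hom (w s) ≫ K.hom from
      Sigma.hom_ext _ _ fun s => by simp [g]]
    refine IsZariskiLocalAtSource.sigmaDesc fun s => ?_
    haveI := hwf s
    haveI : Flat (pullback.snd K.hom (w s)) := hfl s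
    rw [pullback.condition]
    infer_instance
  haveI : Surjective g := ⟨fun x => by
    obtain ⟨w₀, hw₀⟩ := hs (K.hom x)
    obtain ⟨y, hy, -⟩ := Scheme.Pullback.exists_preimage_pullback (f := K.hom) (g := w (K.hom x)) x w₀ hw₀.symm
    refine ⟨Sigma.ι (fun s => pullback K.hom (w s)) (K.hom x) y, ?_⟩
    rw [← Scheme.Hom.comp_apply, Sigma.ι_desc, hy]⟩
  exact AlgSpDescent.flat_of_comp_flat_surjective g K.hom

end Groth.Agent.ImTor21
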