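import Groth.Agent.Lib.ImTor21.Kernel
import Groth.Agent.Lib.ImTor21.Field
import Groth.Agent.Lib.MTRigid29.QuotTorus
import Groth.Agent.Lib.CartanRel21.Basic

/-!
# Images of maximal tori over a base
-/

set_option autoImplicit false
set_option linter.style.haveILetI false
set_option linter.unusedSectionVars false
set_option backward.isDefEq.respectTransparency.types false

universe u

open CategoryTheory Limits MonoidalCategory CartesianMonoidalCategory MonObj AlgebraicGeometry

noncomputable section

namespace Groth.Agent.ImTor21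

open DiagGL MTRigid29

variable {S : Scheme.{u}} {G G' T : Over S} [GrpObj G] [GrpObj G'] [GrpObj T]

/-- The image of a maximal torus under a fibrewise surjective homomorphism is a maximal torus. -/
theorem exists_image_maxTorus [Smooth G.hom] [QuasiCompact G.hom] [IsSeparated G'.hom] [LocallyOfFiniteType G'.hom]
    (u : G ⟶ G') [IsMonHom u] (hu : ∀ s : S, Surjective ((Over.pullback (Red.geomPt s)).map u).left) (i : T ⟶ G)
    (hT : Red.IsMaximalTorus i) :
    ∃ (T' : Over S) (_ : GrpObj T') (i' : T' ⟶ G') (v : T ⟶ T'), Red.IsMaximalTorus i' ∧ IsMonHom v ∧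
      v ≫ i' = i ≫ u ∧ Surjective v.left ∧ Flat v.left := by
  haveI := hT.1
  have hMT := TorPts21.isMultTypeFT_of_isTorus hT.2.2.1
  haveI := lfp_of_isMultTypeFT hMT
  obtain ⟨K, _, k, hkm, hkc, hKfp, hker, hpts⟩ := exists_kernel (i ≫ u)
  haveI := hkm
  haveI := hkc
  haveI := hKfp
  haveI : Mono k := Over.mono_of_mono_left k
  have hKf := flat_kernel hMT (i ≫ u) k hpts
  have hKm := isMultTypeFT_of_closedSubgroup K T hMT k hkc hKf hKfp
  obtain ⟨Q, _, q, hqm, hq, -, m, hm, hmono, hqm'⟩ :=
    QuotFlat20.exists_kernelQuotient (.inl inferInstance) (i ≫ u) k hker hKf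
  haveI := hqm
  haveI := hm
  haveI := hmono
  have hQ := isTorus_quotient hT.2.2.1 k hKm q hq
  refine ⟨Q, inferInstance, m, q, ⟨hm, hmono, hQ, fun s R _ j _ _ f hR hf => ?_⟩, hqm, hqm', hq.1, hq.2.1⟩
  let g := Red.geomPt s
  haveI := hu s
  haveI : Smooth (Red.bc g G).hom := inferInstanceAs (Smooth (pullback.snd G.hom g))
  haveI : QuasiCompact (Red.bc g G).hom := inferInstanceAs (QuasiCompact (pullback.snd G.hom g))
  haveI : LocallyOfFiniteType (Red.bc g G').hom := inferInstanceAs (LocallyOfFiniteType (pullback.snd G'.hom g))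
  haveI := isMonHom_map u g
  haveI := isMonHom_map m g
  haveI : Mono ((Over.pullback g).map m) := Functor.map_mono _ _
  exact (isMaxTorus_image_gen ((Over.pullback g).map u) (CartanRel21.isMaxTorus_geom hT s)
    ((Over.pullback g).map m) (MTExt21.isTorus_bc hQ g) ((Over.pullback g).map q)
    (by rw [← Functor.map_comp, hqm', Functor.map_comp])).2.2.2 R j f hR hf

end Groth.Agent.ImTor21
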