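import Groth.Agent.Lib.AttrBorel21.CentGenMain
import Groth.Agent.Lib.TorPts21.ImageTorus
import Groth.Agent.Lib.TorusHom19.Basic
import Groth.Agent.Lib.AffPart25.AffHom

/-!
# Surjections of connected groups onto tori
-/

set_option autoImplicit false
set_option linter.style.haveILetI false
set_option linter.unusedSectionVars false
set_option backward.isDefEq.respectTransparency.types false

universe u

open CategoryTheory Limits MonoidalCategory CartesianMonoidalCategory MonObj AlgebraicGeometry

noncomputable section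

namespace Groth.Agent.ImTor21

variable {k : Type u} [Field k] [IsAlgClosed k]

set_option maxHeartbeats 1000000 in
/-- A maximal torus of the affine part already maps onto the torus. -/
theorem exists_torus_surjective {H R : Over (Spec (CommRingCat.of k))} [GrpObj H] [GrpObj R] [Smooth H.hom]
    [QuasiCompact H.hom] [ConnectedSpace H.left] (hR : Red.IsTorus R) (p : H ⟶ R) [IsMonHom p] [Surjective p.left] :
    ∃ (T₀ : Over (Spec (CommRingCat.of k))) (_ : GrpObj T₀) (i₀ : T₀ ⟶ H),
      IsMonHom i₀ ∧ Mono i₀ ∧ Red.IsTorus T₀ ∧ Surjective (i₀ ≫ p).left := by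
  obtain ⟨hRa, hRs, hRc, -⟩ := TorPts21.props_of_isTorus hR
  haveI := hRa
  haveI := hRs
  haveI := hRc
  obtain ⟨N, _, i, A, _, q, him, hic, hNs, hNc, hNa, -, hqm, hqf, hqs, hqq, hker, hAp⟩ :=
    AffPart25.exists_chevalley_any H
  haveI := him; haveI := hic; haveI := hNs; haveI := hNc; haveI := hNa
  haveI := hqm; haveI := hqf; haveI := hqs; haveI := hqq; haveI := hAp
  obtain ⟨R₁, _, r, pr, hrm, hrc, hR₁, hprs, hpr⟩ := BorelFix21.exists_image (i ≫ p)
  haveI := hrm; haveI := hrc; haveI := hR₁; haveI := hprs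
  haveI : IsAffine R₁.left := isAffine_of_isAffineHom r.left
  haveI : LocallyOfFiniteType R₁.hom := by rw [← Over.w r]; infer_instance
  haveI : Smooth R₁.hom := GrpSmooth19.smooth_of_isReduced R₁
  haveI : ConnectedSpace R₁.left := pr.left.surjective.connectedSpace pr.left.continuous
  haveI : Mono r := Over.mono_of_mono_left r
  obtain ⟨Q, _, qR, hqRm, hqRf, hkerR, hQs, hQq, -⟩ := AttrBorel21.exists_quotient_central r
    (fun X x g => MTRigid29.commute_of_isMultTypeFT (TorPts21.isMultTypeFT_of_isTorus hR) _ _)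
  haveI := hqRm
  haveI := hQs
  haveI : IsSeparated Q.hom := AbRigid.isSeparated_of_grpObj Q
  have hrq : r ≫ qR = 1 := by rw [hkerR.w, Hom.one_def]
  have hiq : i ≫ p ≫ qR = 1 := by
    rw [← Category.assoc, ← hpr, Category.assoc, hrq, MonObj.comp_one]
  haveI : LocallyOfFinitePresentation q.left := by
    haveI : LocallyOfFiniteType (q.left ≫ A.hom) := by rw [Over.w q]; infer_instance
    haveI : LocallyOfFiniteType q.left := locallyOfFiniteType_of_comp q.left A.hom
    haveI : IsLocallyNoetherian A.left := LocallyOfFiniteType.isLocallyNoetherian A.hom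
    exact LocallyOfFinitePresentation.iff_locallyOfFiniteType.2 inferInstance
  obtain ⟨l, hlm, hl⟩ := MTRigid29.exists_desc_hom q (p ≫ qR) fun {X} a b hab => by
    have hk : (a * b⁻¹) ≫ q = toUnit X ≫ η[A] := by
      rw [MonObj.mul_comp, GrpObj.inv_comp, hab, mul_inv_cancel, Hom.one_def]
    have h := congrArg (· ≫ p ≫ qR) (hker.lift_fst (a * b⁻¹) (toUnit X) hk)
    simp only [Category.assoc, hiq, MonObj.comp_one] at h
    rw [MonObj.mul_comp (a) (b⁻¹) (p ≫ qR), GrpObj.inv_comp] at h
    exact mul_inv_eq_one.1 h.symm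
  haveI : Surjective (q.left ≫ l.left) := by
    rw [← Over.comp_left, hl, Over.comp_left]
    haveI : Surjective qR.left := hqRf.surj
    infer_instance
  haveI : Surjective l.left := Surjective.of_comp q.left l.left
  haveI : UniversallyClosed (l.left ≫ Q.hom) := by rw [Over.w l]; infer_instance
  haveI : UniversallyClosed Q.hom := UniversallyClosed.of_comp_surjective l.left Q.hom
  haveI : IsProper Q.hom := {}
  have hqR : qR = 1 := TorusHom19.eq_one_of_isProper hR qR
  have h1 : 𝟙 R ≫ qR = toUnit R ≫ η[Q] := by rw [Category.id_comp, hqR, Hom.one_def]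
  haveI : IsSplitEpi r := IsSplitEpi.mk' ⟨hkerR.lift (𝟙 R) (toUnit R) h1, hkerR.lift_fst _ _ h1⟩
  haveI : IsIso r := isIso_of_mono_of_isSplitEpi r
  haveI : Surjective (i ≫ p).left := by
    rw [← hpr, Over.comp_left]
    haveI : IsIso r.left := inferInstanceAs (IsIso ((Over.forget _).map r))
    infer_instance
  obtain ⟨T₀, _, iT, hT₀⟩ := TorPts21.exists_maxTorus N
  haveI := hT₀.1
  haveI := hT₀.2.1
  obtain ⟨hTa, hTs, -, -⟩ := TorPts21.props_of_isTorus hT₀.2.2.1
  haveI := hTa
  haveI := hTs
  obtain ⟨σ, _, s, ps, hsm, hsc, hsr, hpss, hps⟩ := BorelFix21.exists_image (iT ≫ i ≫ p)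
  haveI := hsm
  haveI := hsc
  haveI := hsr
  haveI := hpss
  have hσ := TorPts21.isMaxTorus_image (i ≫ p) hT₀ ps hps
  haveI : Mono s := Over.mono_of_mono_left s
  haveI : IsIso s := hσ.2.2.2 R (𝟙 R) s hR (Category.comp_id _)
  haveI : IsIso s.left := inferInstanceAs (IsIso ((Over.forget _).map s))
  haveI : Mono i := Over.mono_of_mono_left i
  refine ⟨T₀, inferInstance, iT ≫ i, inferInstance, mono_comp _ _, hT₀.2.2.1, ?_⟩
  rw [Category.assoc, ← hps, Over.comp_left]
  infer_instance

end Groth.Agent.ImTor21
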